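import Groth.Prelude.Def_EtAcyc
import Groth.Agent.EtPtsLib.Agree
import Groth.Agent.EtPtsLib.Opens
import Groth.Agent.EtPtsLib.UnitMono

/-!
# Units of inverse and direct image of sheaves of sets, and surjectivity

* `mono_unit_sh`: for a surjective morphism the unit `F ⟶ g_* g^* F` is a monomorphism.
* `opensAbove W`: the sheaf `U ↦ {opens of U containing the preimage of W}`; its stalks at points of
  `W` are singletons, so its inverse image along a morphism with image in `W` is final.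
-/

set_option autoImplicit false
set_option backward.isDefEq.respectTransparency false
set_option backward.isDefEq.respectTransparency.types false

universe u

open CategoryTheory CategoryTheory.Limits AlgebraicGeometry Opposite GrothendieckTopology

namespace Groth.Agent.AcycSurjLib

open EtPtsLib

variable {X Y : Scheme.{u}}

/-- The unit for sheaves of sets is injective on stalks at geometric points coming from the source. -/
theorem stalk_unit_injective (f : X ⟶ Y) {Ω : Type u} [Field Ω] [IsSepClosed Ω]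
    (ζ : Spec (CommRingCat.of Ω) ⟶ X) (F : EtDesc.Sh Y) :
    Function.Injective ((Scheme.pointSmallEtale (ζ ≫ f)).presheafFiber.map
      ((EtDesc.adjSh f).unit.app F).hom) := by
  intro a b h
  apply (bijective_unitStalk f ζ F).1
  simp only [unitStalk, ConcreteCategory.comp_apply]
  exact congrArg _ h

/-- The unit is a monomorphism for a surjective morphism. -/
theorem mono_unit_sh (f : X ⟶ Y) [Surjective f] (F : EtDesc.Sh Y) :
    Mono ((EtDesc.adjSh f).unit.app F) := by
  choose x hx using f.surjective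
  let K := fun y : Y => SeparableClosure (X.residueField (x y))
  haveI : Sheaf.IsLocallyInjective ((EtDesc.adjSh f).unit.app F) :=
    SitePts.isLocallyInjective (detects_of_points K (fun y => geomPt (x y) ≫ f) fun y => by
      rw [Scheme.Hom.comp_apply, geomPt_default, hx]) ((EtDesc.adjSh f).unit.app F).hom
      fun y => stalk_unit_injective f (geomPt (x y)) F
  exact Sheaf.mono_of_isLocallyInjective _

/-- The presheaf `U ↦ {opens of U containing the preimage of W}`. -/
noncomputable def opensAbovePre (W : Y.Opens) : Y.Etaleᵒᵖ ⥤ Type (u + 1) where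
  obj U := ULift.{u + 1} {O : U.unop.left.Opens // U.unop.hom ⁻¹ᵁ W ≤ O}
  map {U V} g := ↾fun O => ⟨⟨g.unop.left ⁻¹ᵁ O.down.1, fun v hv => O.down.2 (by
    rw [← MorphismProperty.Over.w g.unop] at hv
    exact hv)⟩⟩
  map_id U := by ext O; rfl
  map_comp g h := by ext O; rfl

theorem isSheaf_opensAbovePre (W : Y.Opens) :
    Presheaf.IsSheaf Y.smallEtaleTopology (opensAbovePre W) := by
  rw [isSheaf_iff_isSheaf_of_type]
  intro U R hR x hx
  let O : U.left.Opens := ⟨⋃ (V : Y.Etale) (g : V ⟶ U) (hg : R g),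
      g.left '' ((x g hg).down.1 : Set V.left),
    isOpen_iUnion fun V => isOpen_iUnion fun g => isOpen_iUnion fun hg => by
      haveI := etale_left g
      exact g.left.isOpenMap _ (x g hg).down.1.2⟩
  have hO : ∀ (V : Y.Etale) (g : V ⟶ U) (hg : R g), g.left ⁻¹ᵁ O = (x g hg).down.1 := by
    intro V g hg
    refine le_antisymm (fun v hv => ?_) (fun v hv => ?_)
    · have hv' : g.left v ∈ (O : Set U.left) := hv
      simp only [O, TopologicalSpace.Opens.coe_mk, Set.mem_iUnion, Set.mem_image] at hv'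
      obtain ⟨V', g', hg', w, hw, e⟩ := hv'
      obtain ⟨z, hz1, hz2⟩ := Scheme.Pullback.exists_preimage_pullback (f := g.left) (g := g'.left) v w e.symm
      haveI := etale_left g
      haveI := etale_left g'
      haveI : AlgebraicGeometry.Etale V.hom := V.prop
      haveI : AlgebraicGeometry.Etale (pullback.fst g.left g'.left ≫ V.hom) := inferInstance
      let P : Y.Etale := Scheme.Etale.mk (pullback.fst g.left g'.left ≫ V.hom)
      let p : P ⟶ V := MorphismProperty.Over.homMk (pullback.fst g.left g'.left) rfl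
      let q : P ⟶ V' := MorphismProperty.Over.homMk (pullback.snd g.left g'.left) (by
        change pullback.snd g.left g'.left ≫ V'.hom = pullback.fst g.left g'.left ≫ V.hom
        rw [← MorphismProperty.Over.w g', ← MorphismProperty.Over.w g, ← Category.assoc,
          ← Category.assoc, pullback.condition])
      have hpq : p ≫ g = q ≫ g' := MorphismProperty.Over.Hom.ext pullback.condition
      have hc := congrArg (fun s : ULift.{u + 1} {O : P.left.Opens // P.hom ⁻¹ᵁ W ≤ O} => s.down.1)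
        (hx p q hg hg' hpq)
      have hz : z ∈ (pullback.snd g.left g'.left) ⁻¹ᵁ (x g' hg').down.1 := by
        change pullback.snd g.left g'.left z ∈ (x g' hg').down.1
        rw [hz2]; exact hw
      have hz' : z ∈ (pullback.fst g.left g'.left) ⁻¹ᵁ (x g hg).down.1 :=
        (SetLike.ext_iff.1 hc z).2 hz
      change pullback.fst g.left g'.left z ∈ (x g hg).down.1 at hz'
      rwa [hz1] at hz'
    · show g.left v ∈ (O : Set U.left)
      simp only [O, TopologicalSpace.Opens.coe_mk, Set.mem_iUnion, Set.mem_image]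
      exact ⟨V, g, hg, v, hv, rfl⟩
  have hW : U.hom ⁻¹ᵁ W ≤ O := by
    intro p hp
    obtain ⟨V, g, v, hg, rfl⟩ := exists_mem_of_covering hR p
    have : v ∈ g.left ⁻¹ᵁ O := by
      rw [hO V g hg]
      refine (x g hg).down.2 ?_
      change V.hom v ∈ W
      rw [← MorphismProperty.Over.w g]
      exact hp
    exact this
  refine ⟨⟨⟨O, hW⟩⟩, fun V g hg => ULift.ext _ _ (Subtype.ext (hO V g hg)), fun t ht => ?_⟩
  refine ULift.ext _ _ (Subtype.ext (TopologicalSpace.Opens.ext (Set.ext fun p => ?_)))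
  obtain ⟨V, g, v, hg, rfl⟩ := exists_mem_of_covering hR p
  have e : g.left ⁻¹ᵁ t.down.1 = g.left ⁻¹ᵁ O := by
    rw [hO V g hg]
    exact congrArg (fun s : ULift.{u + 1} {O : V.left.Opens // V.hom ⁻¹ᵁ W ≤ O} => s.down.1) (ht g hg)
  exact SetLike.ext_iff.1 e v

/-- The sheaf `U ↦ {opens of U containing the preimage of W}`. -/
noncomputable def opensAbove (W : Y.Opens) : EtDesc.Sh Y :=
  ⟨opensAbovePre W, isSheaf_opensAbovePre W⟩

theorem subsingleton_stalk_opensAbove (W : Y.Opens) {Ω : Type u} [Field Ω] [IsSepClosed Ω]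
    (ξ : Spec (CommRingCat.of Ω) ⟶ Y) (hξ : ξ default ∈ W) :
    Subsingleton ((Scheme.pointSmallEtale ξ).presheafFiber.obj (opensAbove W).obj) := by
  refine ⟨fun a b => ?_⟩
  obtain ⟨U, l, s, t, rfl, rfl⟩ := (Scheme.pointSmallEtale ξ).toPresheafFiber_jointly_surjective₂ (P := (opensAbove W).obj) a b
  rw [germ_eq_iff_mem_agree]
  haveI : AlgebraicGeometry.Etale U.hom := U.prop
  haveI : AlgebraicGeometry.Etale ((U.hom ⁻¹ᵁ W).ι ≫ U.hom) := inferInstance
  let U' : Y.Etale := Scheme.Etale.mk ((U.hom ⁻¹ᵁ W).ι ≫ U.hom)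
  let g : U' ⟶ U := MorphismProperty.Over.homMk (U.hom ⁻¹ᵁ W).ι rfl
  have htop : ∀ O : U'.left.Opens, U'.hom ⁻¹ᵁ W ≤ O → O = ⊤ := fun O hO =>
    top_le_iff.1 fun p _ => hO (show U.hom ((U.hom ⁻¹ᵁ W).ι p) ∈ W from p.2)
  refine Set.mem_iUnion.2 ⟨U', Set.mem_iUnion.2 ⟨g, Set.mem_iUnion.2 ⟨?_, ?_⟩⟩⟩
  · exact ULift.ext _ _ (Subtype.ext ((htop _ ((opensAbovePre W).map g.op s).down.2).trans
      (htop _ ((opensAbovePre W).map g.op t).down.2).symm))
  · have h : liftHom ξ l default ∈ U.hom ⁻¹ᵁ W := by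
      change U.hom (liftHom ξ l default) ∈ W
      have e : U.hom (liftHom ξ l default) = ξ default :=
        (Scheme.Hom.comp_apply (liftHom ξ l) U.hom default).symm.trans
          (congrArg (fun f : Spec (CommRingCat.of Ω) ⟶ Y => f default) (liftHom_comp ξ l))
      exact e ▸ hξ
    exact ⟨⟨liftHom ξ l default, h⟩, rfl⟩

/-- The inverse image of `opensAbove W` along a morphism with image in `W` is final. -/
theorem subsingleton_pullSh_opensAbove (h : X ⟶ Y) (W : Y.Opens) (hW : ∀ x, h x ∈ W) (U : X.Etaleᵒᵖ) :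
    Subsingleton (((EtDesc.pullSh h).obj (opensAbove W)).obj.obj U) := by
  refine (mono_from_iff _).1 ((mono_iff_sh _).2 fun Ω _ _ ζ => ?_) U
  haveI := subsingleton_stalk_opensAbove W (ζ ≫ h) (by rw [Scheme.Hom.comp_apply]; exact hW _)
  have : Subsingleton ((Scheme.pointSmallEtale ζ).presheafFiber.obj
      ((EtDesc.pullSh h).obj (opensAbove W)).obj) :=
    (bijective_unitStalk h ζ (opensAbove W)).2.subsingleton
  exact fun a b _ => @Subsingleton.elim _ this a b

/-- If the image of `h` lies in the open `W ≠ ⊤` then some unit `F ⟶ h_* h^* F` is not a monomorphism. -/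
theorem eq_top_of_mono_unit (h : X ⟶ Y) (W : Y.Opens) (hW : ∀ x, h x ∈ W)
    (hm : Mono ((EtDesc.adjSh h).unit.app (opensAbove W))) : W = ⊤ := by
  haveI := hm
  haveI : Mono ((EtDesc.adjSh h).unit.app (opensAbove W)).hom := (sheafToPresheaf _ _).map_mono _
  have hi : Function.Injective (((EtDesc.adjSh h).unit.app (opensAbove W)).hom.app (op (EtCoh.top Y))) :=
    (mono_iff_injective _).1 inferInstance
  haveI := subsingleton_pullSh_opensAbove h W hW (op ((EtCoh.bc h).obj (EtCoh.top Y)))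
  have key := hi (a₁ := ⟨⟨(EtCoh.top Y).hom ⁻¹ᵁ W, le_rfl⟩⟩) (a₂ := ⟨⟨⊤, le_top⟩⟩)
    (@Subsingleton.elim _ this _ _)
  have key' : (EtCoh.top Y).hom ⁻¹ᵁ W = ⊤ := congrArg (fun s => s.down.1) key
  exact top_le_iff.1 fun y _ => SetLike.ext_iff.1 key' y |>.2 trivial

theorem mem_inf {ι : Type*} (S : ι → Y.Opens) (t : Finset ι) (y : Y) :
    y ∈ t.inf S ↔ ∀ i ∈ t, y ∈ S i := by
  classical
  induction t using Finset.induction_on with
  | empty => simp
  | insert a t ha ih => rw [Finset.inf_insert]; simp [TopologicalSpace.Opens.mem_inf, ih]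

/-- For a quasi-compact morphism, a point off the image is separated from it, near itself, by an open. -/
theorem exists_opens_of_notMem_range (g : X ⟶ Y) [QuasiCompact g] (y : Y) (hy : y ∉ Set.range g) :
    ∃ V W : Y.Opens, y ∈ V ∧ y ∉ W ∧ ∀ x, g x ∈ V → g x ∈ W := by
  classical
  obtain ⟨V, hV, hyV, -⟩ := exists_isAffineOpen_mem_and_subset (x := y) (U := ⊤) trivial
  have main : ∀ U : X.affineOpens, U.1 ≤ g ⁻¹ᵁ V →
      ∃ S W : Y.Opens, y ∈ S ∧ y ∉ W ∧ ∀ x ∈ U.1, g x ∈ S → g x ∈ W := by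
    intro U hU
    let φ := (g.appLE V U.1 hU).hom
    let p := hV.primeIdealOf ⟨y, hyV⟩
    have hp : p ∉ Set.range (PrimeSpectrum.comap φ) := by
      rintro ⟨q, hq⟩
      refine hy ⟨U.2.fromSpec q, ?_⟩
      rw [← Scheme.Hom.comp_apply, ← IsAffineOpen.SpecMap_appLE_fromSpec g hV U.2 hU,
        Scheme.Hom.comp_apply]
      change hV.fromSpec (PrimeSpectrum.comap φ q) = y
      rw [hq]
      exact hV.fromSpec_primeIdealOf ⟨y, hyV⟩
    rw [PrimeSpectrum.mem_range_comap_iff] at hp
    obtain ⟨s, hs, hsp⟩ := SetLike.not_le_iff_exists.1 fun hle => hp (le_antisymm hle Ideal.le_comap_map)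
    obtain ⟨T, hT, hsT⟩ := Submodule.mem_span_finite_of_mem_span (R := Γ(X, U.1))
      (show φ s ∈ Submodule.span Γ(X, U.1) (φ '' (p.asIdeal : Set Γ(Y, V))) from hs)
    refine ⟨Y.basicOpen s, ⨆ t ∈ {t ∈ (p.asIdeal : Set Γ(Y, V)) | φ t ∈ T}, Y.basicOpen t, ?_, ?_, ?_⟩
    · have hps : p ∈ hV.fromSpec ⁻¹ᵁ Y.basicOpen s := by
        rw [hV.fromSpec_preimage_basicOpen]; exact hsp
      have := hV.fromSpec_primeIdealOf ⟨y, hyV⟩
      have hps' : hV.fromSpec p ∈ Y.basicOpen s := hps
      rw [this] at hps'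
      exact hps'
    · simp only [TopologicalSpace.Opens.mem_iSup]
      rintro ⟨t, ⟨ht, -⟩, hyt⟩
      have hpt : p ∈ hV.fromSpec ⁻¹ᵁ Y.basicOpen t := by
        change hV.fromSpec p ∈ Y.basicOpen t
        rw [hV.fromSpec_primeIdealOf ⟨y, hyV⟩]; exact hyt
      rw [hV.fromSpec_preimage_basicOpen] at hpt
      exact hpt ht
    · intro x hx hxs
      have hb : ∀ t : Γ(Y, V), g x ∈ Y.basicOpen t ↔ φ t ∉ (U.2.primeIdealOf ⟨x, hx⟩).asIdeal := by
        intro t
        have h1 : X.basicOpen (g.appLE V U.1 hU t) = U.1 ⊓ g ⁻¹ᵁ Y.basicOpen t := by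
          rw [Scheme.Hom.appLE, CommRingCat.comp_apply, Scheme.basicOpen_res,
            ← Scheme.preimage_basicOpen]
        have h2 : x ∈ X.basicOpen (g.appLE V U.1 hU t) ↔
            U.2.primeIdealOf ⟨x, hx⟩ ∈ PrimeSpectrum.basicOpen (φ t) := by
          rw [← U.2.fromSpec_preimage_basicOpen]
          refine Iff.of_eq ?_
          change _ = (U.2.fromSpec (U.2.primeIdealOf ⟨x, hx⟩) ∈ X.basicOpen (φ t))
          rw [U.2.fromSpec_primeIdealOf]
        rw [h1] at h2
        exact ⟨fun h => h2.1 ⟨hx, h⟩, fun h => (h2.2 h).2⟩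
      rw [hb] at hxs
      by_contra hne
      simp only [TopologicalSpace.Opens.mem_iSup, not_exists] at hne
      refine hxs (Ideal.span_le.2 (fun a ha => ?_) hsT)
      obtain ⟨t, ht, rfl⟩ := hT ha
      by_contra h
      exact hne t ⟨ht, ha⟩ ((hb t).2 h)
  obtain ⟨t, ht⟩ := isCompact_and_isOpen_iff_finite_and_eq_biUnion_affineOpens.1
    ⟨g.isCompact_preimage hV.isCompact, (g ⁻¹ᵁ V).2⟩
  obtain ⟨htf, ht⟩ := ht
  have hle : ∀ U ∈ t, U.1 ≤ g ⁻¹ᵁ V := fun U hU => by
    intro p hp
    have hp' : p ∈ ((g ⁻¹ᵁ V : X.Opens) : Set X) := by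
      erw [ht]
      exact Set.mem_iUnion₂.2 ⟨U, hU, hp⟩
    exact hp'
  choose S W h1 h2 h3 using fun U : htf.toFinset => main U.1 (hle U.1 (htf.mem_toFinset.1 U.2))
  refine ⟨V ⊓ Finset.univ.inf S, ⨆ U, W U,
    ⟨hyV, (mem_inf S Finset.univ y).2 fun U _ => h1 U⟩, ?_, ?_⟩
  · simp only [TopologicalSpace.Opens.mem_iSup, not_exists]
    exact h2
  · intro x hx
    have hxV : x ∈ ((g ⁻¹ᵁ V : X.Opens) : Set X) := hx.1
    erw [ht] at hxV
    obtain ⟨U, hU, hxU⟩ := Set.mem_iUnion₂.1 hxV
    exact TopologicalSpace.Opens.mem_iSup.2 ⟨⟨U, htf.mem_toFinset.2 hU⟩,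
      h3 _ x hxU ((mem_inf S Finset.univ _).1 hx.2 _ (Finset.mem_univ _))⟩

end Groth.Agent.AcycSurjLib
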